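import Mathlib.CategoryTheory.Presentable.Dense
import Mathlib.CategoryTheory.Presentable.Limits
import Mathlib.CategoryTheory.Functor.KanExtension.Pointwise
import Mathlib.CategoryTheory.Comma.CardinalArrow
import Mathlib.CategoryTheory.Comma.StructuredArrow.Small
import Mathlib.CategoryTheory.Limits.Constructions.Filtered
import Mathlib.CategoryTheory.Preadditive.AdditiveFunctor
import Mathlib.CategoryTheory.Abelian.GrothendieckAxioms.Basic
import Mathlib.CategoryTheory.Abelian.Subcategory

/-!
# Extension of functors from the finitely presentable objects of a finitely accessible category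
-/

set_option autoImplicit false
universe u v' u' w'
open CategoryTheory CategoryTheory.Limits Opposite ZeroObject

namespace Groth.Agent.FinAcc10

attribute [local instance] Cardinal.fact_isRegular_aleph0

variable {C : Type w'} [Category.{u} C] [IsFinitelyAccessibleCategory.{u} C]

/-- the finitely presentable objects -/
abbrev fp (C : Type w') [Category.{u} C] : ObjectProperty C := ObjectProperty.isFinitelyPresentable.{u} C

/-- the category of finitely presentable objects -/
abbrev FP (C : Type w') [Category.{u} C] := (fp C).FullSubcategory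

instance (G : FP C) : IsFinitelyPresentable.{u} G.obj := G.property

theorem exists_hom {J : Type u} [SmallCategory J] [IsFiltered J] {K : J ⥤ C}
    {c : Cocone K} (hc : IsColimit c) {G : FP C} (g : G.obj ⟶ c.pt) :
    ∃ (j : J) (h : G.obj ⟶ K.obj j), h ≫ c.ι.app j = g :=
  haveI : IsCardinalFiltered J Cardinal.aleph0.{u} := (isCardinalFiltered_aleph0_iff J).2 inferInstance
  IsCardinalPresentable.exists_hom_of_isColimit Cardinal.aleph0.{u} hc g

theorem exists_eq {J : Type u} [SmallCategory J] [IsFiltered J] {K : J ⥤ C}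
    {c : Cocone K} (hc : IsColimit c) {G : FP C} {i₁ i₂ : J} (h₁ : G.obj ⟶ K.obj i₁)
    (h₂ : G.obj ⟶ K.obj i₂) (h : h₁ ≫ c.ι.app i₁ = h₂ ≫ c.ι.app i₂) :
    ∃ (j : J) (a : i₁ ⟶ j) (b : i₂ ⟶ j), h₁ ≫ K.map a = h₂ ≫ K.map b :=
  haveI : IsCardinalFiltered J Cardinal.aleph0.{u} := (isCardinalFiltered_aleph0_iff J).2 inferInstance
  IsCardinalPresentable.exists_eq_of_isColimit Cardinal.aleph0.{u} hc h₁ h₂ h

variable {B : Type u'} [Category.{v'} B]

/-- Functors preserving filtered colimits preserve colimits over `FP / X`. -/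
instance preservesColimitsOfShape_costructuredArrow (F₁ : C ⥤ B)
    [PreservesFilteredColimitsOfSize.{u, u} F₁] (X : C) :
    PreservesColimitsOfShape (CostructuredArrow (fp C).ι X) F₁ :=
  haveI : IsFiltered (SmallModel.{u} (CostructuredArrow (fp C).ι X)) :=
    IsFiltered.of_equivalence (equivSmallModel.{u} _)
  preservesColimitsOfShape_of_equiv (equivSmallModel.{u} _).symm F₁

/-- A functor preserving filtered colimits is the pointwise left Kan extension of its restriction
to finitely presented modules. -/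
noncomputable def isPointwise (F₁ : C ⥤ B)
    [PreservesFilteredColimitsOfSize.{u, u} F₁] :
    (Functor.LeftExtension.mk F₁ (𝟙 ((fp C).ι ⋙ F₁))).IsPointwiseLeftKanExtension := fun X =>
  IsColimit.ofIsoColimit (isColimitOfPreserves F₁ ((fp C).ι.denseAt X))
    (Cocone.ext (Iso.refl _) (fun g => by
      change F₁.map (𝟙 _ ≫ g.hom) ≫ 𝟙 _ = 𝟙 _ ≫ F₁.map g.hom
      simp))

/-- Maps out of `F₁ X` are determined on finitely presented modules. -/
theorem hom_ext (F₁ : C ⥤ B) [PreservesFilteredColimitsOfSize.{u, u} F₁]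
    {X : C} {T : B} {s t : F₁.obj X ⟶ T}
    (h : ∀ (G : FP C) (g : G.obj ⟶ X), F₁.map g ≫ s = F₁.map g ≫ t) : s = t :=
  (isPointwise F₁ X).hom_ext' fun {G} g => by
    change 𝟙 _ ≫ F₁.map g ≫ s = 𝟙 _ ≫ F₁.map g ≫ t
    rw [h G g]

/-- A compatible family on finitely presented modules gives a map out of `F₁ X`. -/
theorem exists_desc (F₁ : C ⥤ B) [PreservesFilteredColimitsOfSize.{u, u} F₁]
    {X : C} {T : B} (φ : ∀ (G : FP C), (G.obj ⟶ X) → (F₁.obj G.obj ⟶ T))
    (hφ : ∀ {G H : FP C} (f : G ⟶ H) (g : H.obj ⟶ X), φ G (f.hom ≫ g) = F₁.map f.hom ≫ φ H g) :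
    ∃ s : F₁.obj X ⟶ T, ∀ (G : FP C) (g : G.obj ⟶ X), F₁.map g ≫ s = φ G g := by
  let c : Cocone (CostructuredArrow.proj (fp C).ι X ⋙ ((fp C).ι ⋙ F₁)) :=
    { pt := T
      ι :=
        { app := fun g => φ g.left g.hom
          naturality := fun g g' f => by
            have := hφ f.left g'.hom
            rw [show f.left.hom ≫ g'.hom = g.hom from CostructuredArrow.w f] at this
            exact this.symm.trans (Category.comp_id _).symm } }
  refine ⟨(isPointwise F₁ X).desc c, fun G g => ?_⟩
  have := (isPointwise F₁ X).fac c (CostructuredArrow.mk g)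
  change (𝟙 _ ≫ F₁.map g) ≫ _ = φ G g at this
  rwa [Category.id_comp] at this

theorem nonempty_iso (F₁ F₂ : C ⥤ B) [PreservesFilteredColimitsOfSize.{u, u} F₁]
    [PreservesFilteredColimitsOfSize.{u, u} F₂] (e : (fp C).ι ⋙ F₁ ≅ (fp C).ι ⋙ F₂) :
    Nonempty (F₁ ≅ F₂) :=
  haveI : F₁.IsLeftKanExtension (𝟙 ((fp C).ι ⋙ F₁)) := (isPointwise F₁).isLeftKanExtension
  haveI : F₂.IsLeftKanExtension (𝟙 ((fp C).ι ⋙ F₂)) := (isPointwise F₂).isLeftKanExtension
  ⟨Functor.leftKanExtensionUniqueOfIso F₁ (𝟙 _) e F₂ (𝟙 _)⟩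

theorem hasColimitsOfShape_costructuredArrow [HasFilteredColimitsOfSize.{u, u} B]
    (X : C) : HasColimitsOfShape (CostructuredArrow (fp C).ι X) B :=
  haveI : IsFiltered (SmallModel.{u} (CostructuredArrow (fp C).ι X)) :=
    IsFiltered.of_equivalence (equivSmallModel.{u} _)
  hasColimitsOfShape_of_equivalence (equivSmallModel.{u} _).symm

/-- A pointwise left Kan extension from finitely presented modules preserves filtered colimits. -/
theorem preserves_of_pointwise {F : FP C ⥤ B} {E : Functor.LeftExtension (fp C).ι F}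
    (hE : E.IsPointwiseLeftKanExtension) : PreservesFilteredColimitsOfSize.{u, u} E.right := by
  refine ⟨fun J _ _ => ⟨fun {K} => ⟨fun {c} hc => ?_⟩⟩⟩
  have wd : ∀ (s : Cocone (K ⋙ E.right)) (G : FP C) (i₁ i₂ : J) (h₁ : G.obj ⟶ K.obj i₁)
      (h₂ : G.obj ⟶ K.obj i₂), h₁ ≫ c.ι.app i₁ = h₂ ≫ c.ι.app i₂ →
      E.hom.app G ≫ E.right.map h₁ ≫ s.ι.app i₁ = E.hom.app G ≫ E.right.map h₂ ≫ s.ι.app i₂ := by
    intro s G i₁ i₂ h₁ h₂ h
    obtain ⟨j, a, b, hab⟩ := exists_eq hc h₁ h₂ h
    have ha := s.w a
    have hb := s.w b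
    simp only [Functor.comp_map] at ha hb
    rw [← ha, ← hb, ← Functor.map_comp_assoc, hab, Functor.map_comp_assoc]
  choose j h hh using fun g : CostructuredArrow (fp C).ι c.pt =>
    exists_hom hc (G := g.left) g.hom
  let t (s : Cocone (K ⋙ E.right)) : Cocone (CostructuredArrow.proj (fp C).ι c.pt ⋙ F) :=
    { pt := s.pt
      ι :=
        { app := fun g => E.hom.app g.left ≫ E.right.map (h g) ≫ s.ι.app (j g)
          naturality := fun g g' f => by
            have hn : F.map f.left ≫ E.hom.app g'.left =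
                E.hom.app g.left ≫ E.right.map f.left.hom := E.hom.naturality f.left
            refine Eq.trans ?_ (Category.comp_id _).symm
            change F.map f.left ≫ E.hom.app g'.left ≫ _ ≫ _ = E.hom.app g.left ≫ _ ≫ _
            refine (Category.assoc _ _ _).symm.trans ((congrArg (· ≫ _) hn).trans ?_)
            refine (Category.assoc _ _ _).trans ?_
            refine Eq.trans ?_ (wd s g.left _ _ (f.left.hom ≫ h g') (h g) (by
              rw [hh g, Category.assoc, hh g']
              exact CostructuredArrow.w f))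
            exact congrArg (E.hom.app g.left ≫ ·) (by rw [E.right.map_comp, Category.assoc]) } }
  refine ⟨{ desc := fun s => (hE c.pt).desc (t s), fac := fun s i => ?_, uniq := fun s m hm => ?_ }⟩
  · refine (hE (K.obj i)).hom_ext' fun {G} g => ?_
    have := (hE c.pt).fac (t s) (CostructuredArrow.mk (g ≫ c.ι.app i))
    change (E.hom.app G ≫ E.right.map (g ≫ c.ι.app i)) ≫ _ = _ at this
    refine Eq.trans ?_ (wd s G _ i (h (CostructuredArrow.mk (g ≫ c.ι.app i))) g (hh _))
    refine Eq.trans ?_ this
    refine Eq.trans ?_ (Category.assoc _ _ _).symm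
    exact congrArg (E.hom.app G ≫ ·) ((Category.assoc _ _ _).symm.trans
      (congrArg (· ≫ _) (E.right.map_comp g (c.ι.app i)).symm))
  · refine (hE c.pt).hom_ext fun g => ?_
    rw [(hE c.pt).fac]
    change (E.hom.app g.left ≫ E.right.map g.hom) ≫ m = E.hom.app g.left ≫ _ ≫ _
    rw [Category.assoc, ← hm (j g)]
    refine congrArg (E.hom.app g.left ≫ ·) ?_
    change _ = E.right.map (h g) ≫ E.right.map (c.ι.app (j g)) ≫ m
    rw [← Category.assoc, ← E.right.map_comp, hh g]

section Additive

open CoproductsFromFiniteFiltered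

variable [Preadditive C] [HasColimitsOfSize.{u, u} C] [Preadditive B] (F₁ : C ⥤ B) [PreservesFilteredColimitsOfSize.{u, u} F₁]

/-- Two maps from a finitely presented module to `Y` factor through a common one. -/
theorem exists_common {G : FP C} {Y : C} (a b : G.obj ⟶ Y) :
    ∃ (H : FP C) (q : H.obj ⟶ Y) (a' b' : G ⟶ H), a'.hom ≫ q = a ∧ b'.hom ≫ q = b := by
  let x : CostructuredArrow (fp C).ι Y := CostructuredArrow.mk (Y := G) a
  let y : CostructuredArrow (fp C).ι Y := CostructuredArrow.mk (Y := G) b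
  exact ⟨(IsFiltered.max x y).left, (IsFiltered.max x y).hom, (IsFiltered.leftToMax x y).left,
    (IsFiltered.rightToMax x y).left, CostructuredArrow.w (IsFiltered.leftToMax x y),
    CostructuredArrow.w (IsFiltered.rightToMax x y)⟩

theorem additive [((fp C).ι ⋙ F₁).Additive] : F₁.Additive := by
  refine ⟨fun {X Y f g} => hom_ext F₁ fun G h => ?_⟩
  obtain ⟨H, q, a, b, ha, hb⟩ := exists_common (h ≫ f) (h ≫ g)
  have hadd : F₁.map (a.hom + b.hom) = F₁.map a.hom + F₁.map b.hom :=
    ((fp C).ι ⋙ F₁).map_add (f := a) (g := b)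
  rw [Preadditive.comp_add, ← F₁.map_comp, ← F₁.map_comp, ← F₁.map_comp, Preadditive.comp_add,
    ← ha, ← hb, ← Preadditive.add_comp, F₁.map_comp, F₁.map_comp, F₁.map_comp, hadd,
    Preadditive.add_comp]

theorem preservesCoproducts [F₁.Additive] (J : Type u) :
    PreservesColimitsOfShape (Discrete J) F₁ := by
  refine ⟨fun {K} => ?_⟩
  suffices PreservesColimit (Discrete.functor (K.obj ∘ Discrete.mk)) F₁ from
    preservesColimit_of_iso_diagram F₁ Discrete.natIsoFunctor.symm
  let f : J → C := K.obj ∘ Discrete.mk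
  refine preservesColimit_of_preserves_colimit_cocone (coproductIsCoproduct f) ?_
  have hS : ∀ S : Finset (Discrete J), IsColimit
      (F₁.mapCocone (colimit.cocone (Discrete.functor fun x : S => (Discrete.functor f).obj x))) :=
    fun S => isColimitOfPreserves F₁ (colimit.isColimit _)
  have hbig := isColimitOfPreserves F₁ (isColimitFiniteSubproductsCocone f)
  have hsum : ∀ (S : Finset (Discrete J)) (x : S),
      F₁.map (Sigma.ι (fun x : S => (Discrete.functor f).obj x) x) ≫
        F₁.map ((finiteSubcoproductsCocone f).ι.app S) = F₁.map (Sigma.ι f x.1.as) := fun S x => by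
    exact (F₁.map_comp _ _).symm.trans
      (congrArg F₁.map (colimit.ι_desc (Cofan.mk _ fun s : S => Sigma.ι f s.1.as) ⟨x⟩))
  refine IsColimit.ofExistsUnique fun s => ?_
  let v : ∀ S : Finset (Discrete J), F₁.obj ((liftToFinsetObj (Discrete.functor f)).obj S) ⟶ s.pt :=
    fun S => (hS S).desc { pt := s.pt, ι := Discrete.natTrans fun x => s.ι.app x.as.1 }
  have hv : ∀ (S : Finset (Discrete J)) (x : S),
      F₁.map (Sigma.ι (fun x : S => (Discrete.functor f).obj x) x) ≫ v S = s.ι.app x.1 :=
    fun S x => (hS S).fac _ ⟨x⟩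
  let c : Cocone (liftToFinsetObj (Discrete.functor f) ⋙ F₁) :=
    { pt := s.pt
      ι :=
        { app := v
          naturality := fun S S' h => by
            refine Eq.trans ?_ (Category.comp_id _).symm
            refine (hS S).hom_ext fun x => ?_
            refine (Category.assoc _ _ _).symm.trans ?_
            refine (congrArg (· ≫ v S') (F₁.map_comp _ _).symm).trans ?_
            refine Eq.trans ?_ (hv S x.as).symm
            refine Eq.trans ?_ (hv S' ⟨x.as.1, h.down.down x.as.2⟩)
            refine congrArg (· ≫ v S') (congrArg F₁.map ?_)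
            exact colimit.ι_desc (Cofan.mk _ fun y : S => Sigma.ι
              (fun x : S' => (Discrete.functor f).obj x) ⟨y.1, h.down.down y.2⟩) x } }
  refine ⟨hbig.desc c, fun j => ?_, fun m hm => hbig.hom_ext fun S => (hS S).hom_ext fun x => ?_⟩
  · have h := congrArg (F₁.map (Sigma.ι _ (⟨j, by simp⟩ : ({j} : Finset (Discrete J)))) ≫ ·)
      (hbig.fac c {j})
    refine Eq.trans ?_ (h.trans (hv {j} ⟨j, by simp⟩))
    refine Eq.trans ?_ (Category.assoc _ _ _)
    exact congrArg (· ≫ hbig.desc c) (hsum {j} ⟨j, by simp⟩).symm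
  · rw [hbig.fac]
    refine Eq.trans ?_ (hv S x.as).symm
    refine Eq.trans (Category.assoc _ _ _).symm ?_
    refine Eq.trans (congrArg (· ≫ m) (hsum S x.as)) ?_
    exact hm x.as.1

end Additive


section Arrows

variable [Preadditive C] [HasColimitsOfSize.{u, u} C] [(fp C).ContainsZero] {X Y : C} (f : X ⟶ Y)

/-- Maps of finitely presented modules over `f`. -/
abbrev Sq : Type _ := CostructuredArrow (fp C).ι.mapArrow (Arrow.mk f)

/-- A square. -/
abbrev Sq.mk' {G H : FP C} (k : G ⟶ H) (a : G.obj ⟶ X) (b : H.obj ⟶ Y)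
    (h : a ≫ f = k.hom ≫ b) : Sq f :=
  CostructuredArrow.mk (Y := Arrow.mk k) (Arrow.homMk a b h)

/-- The source. -/
abbrev π₁ : Sq f ⥤ CostructuredArrow (fp C).ι X where
  obj j := CostructuredArrow.mk (Y := j.left.left) j.hom.left
  map φ := CostructuredArrow.homMk φ.left.left (congrArg CommaMorphism.left (CostructuredArrow.w φ))

/-- The target. -/
abbrev π₂ : Sq f ⥤ CostructuredArrow (fp C).ι Y where
  obj j := CostructuredArrow.mk (Y := j.left.right) j.hom.right
  map φ := CostructuredArrow.homMk φ.left.right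
    (congrArg CommaMorphism.right (CostructuredArrow.w φ))

lemma sq_w (j : Sq f) : j.hom.left ≫ f = j.left.hom.hom ≫ j.hom.right := j.hom.w

/-- Complete the source datum to a square receiving compatible maps. -/
lemma exists_under {x : CostructuredArrow (fp C).ι X} {j : Sq f} (t : (π₁ f).obj j ⟶ x) :
    ∃ (j' : Sq f) (φ : j ⟶ j') (e : x ⟶ (π₁ f).obj j'), (π₁ f).map φ = t ≫ e := by
  let x' : CostructuredArrow (fp C).ι Y := CostructuredArrow.mk (Y := x.left) (x.hom ≫ f)
  let y := IsFiltered.max ((π₂ f).obj j) x'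
  let q := IsFiltered.leftToMax ((π₂ f).obj j) x'
  let k := IsFiltered.rightToMax ((π₂ f).obj j) x'
  let z : CostructuredArrow (fp C).ι Y := CostructuredArrow.mk (Y := j.left.left) (j.hom.left ≫ f)
  have ht : t.left.hom ≫ x.hom = j.hom.left := CostructuredArrow.w t
  let m₁ : z ⟶ y := CostructuredArrow.homMk (t.left ≫ k.left) (by
    change (t.left.hom ≫ k.left.hom) ≫ y.hom = j.hom.left ≫ f
    rw [Category.assoc, show k.left.hom ≫ y.hom = x.hom ≫ f from CostructuredArrow.w k]
    exact (Category.assoc _ _ _).symm.trans (congrArg (· ≫ f) ht))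
  let m₂ : z ⟶ y := CostructuredArrow.homMk (j.left.hom ≫ q.left) (by
    change (j.left.hom.hom ≫ q.left.hom) ≫ y.hom = j.hom.left ≫ f
    rw [Category.assoc, show q.left.hom ≫ y.hom = j.hom.right from CostructuredArrow.w q, sq_w])
  let y' := IsFiltered.coeq m₁ m₂
  let c := IsFiltered.coeqHom m₁ m₂
  have hc : t.left ≫ k.left ≫ c.left = j.left.hom ≫ q.left ≫ c.left := by
    have := congrArg CommaMorphism.left (IsFiltered.coeq_condition m₁ m₂)
    simpa [m₁, m₂] using this
  let j' : Sq f := Sq.mk' f (k.left ≫ c.left) x.hom y'.hom (by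
    change x.hom ≫ f = (k.left.hom ≫ c.left.hom) ≫ y'.hom
    rw [Category.assoc, show c.left.hom ≫ y'.hom = y.hom from CostructuredArrow.w c,
      show k.left.hom ≫ y.hom = x.hom ≫ f from CostructuredArrow.w k])
  refine ⟨j', CostructuredArrow.homMk (Arrow.homMk t.left (q.left ≫ c.left) hc) ?_, 𝟙 x, ?_⟩
  · ext1
    · exact ht
    · change (q.left.hom ≫ c.left.hom) ≫ y'.hom = j.hom.right
      rw [Category.assoc, show c.left.hom ≫ y'.hom = y.hom from CostructuredArrow.w c]
      exact CostructuredArrow.w q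
  · ext1
    exact (Category.comp_id _).symm

/-- Push a square along a map of its target. -/
lemma exists_under₂ {y : CostructuredArrow (fp C).ι Y} {j : Sq f} (t : (π₂ f).obj j ⟶ y) :
    ∃ (j' : Sq f) (φ : j ⟶ j') (e : y ⟶ (π₂ f).obj j'), (π₂ f).map φ = t ≫ e := by
  refine ⟨Sq.mk' f (j.left.hom ≫ t.left) j.hom.left y.hom (by
    change j.hom.left ≫ f = (j.left.hom.hom ≫ t.left.hom) ≫ y.hom
    rw [Category.assoc, show t.left.hom ≫ y.hom = j.hom.right from CostructuredArrow.w t, sq_w]),
    CostructuredArrow.homMk (Arrow.homMk (𝟙 _) t.left (Category.id_comp _)) ?_, 𝟙 y, ?_⟩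
  · ext1
    · exact Category.id_comp _
    · exact CostructuredArrow.w t
  · ext1
    exact (Category.comp_id _).symm

lemma isFiltered_sq : IsFiltered (Sq f) := by
  have : IsFilteredOrEmpty (Sq f) := by
    refine ⟨fun i j => ?_, fun i j u v => ?_⟩
    · let x := IsFiltered.max ((π₁ f).obj i) ((π₁ f).obj j)
      obtain ⟨i', φ, e, he⟩ := exists_under f (IsFiltered.leftToMax ((π₁ f).obj i) ((π₁ f).obj j))
      let b := IsFiltered.rightToMax ((π₁ f).obj i) ((π₁ f).obj j) ≫ e
      let y := IsFiltered.max ((π₂ f).obj i') ((π₂ f).obj j)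
      let q := IsFiltered.leftToMax ((π₂ f).obj i') ((π₂ f).obj j)
      let r := IsFiltered.rightToMax ((π₂ f).obj i') ((π₂ f).obj j)
      let z : CostructuredArrow (fp C).ι Y := CostructuredArrow.mk (Y := j.left.left) (j.hom.left ≫ f)
      have hb : b.left.hom ≫ i'.hom.left = j.hom.left := CostructuredArrow.w b
      let m₁ : z ⟶ y := CostructuredArrow.homMk (b.left ≫ i'.left.hom ≫ q.left) (by
        change (b.left.hom ≫ i'.left.hom.hom ≫ q.left.hom) ≫ y.hom = j.hom.left ≫ f
        rw [Category.assoc, Category.assoc,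
          show q.left.hom ≫ y.hom = i'.hom.right from CostructuredArrow.w q]
        exact (congrArg (b.left.hom ≫ ·) (sq_w f i').symm).trans
          ((Category.assoc _ _ _).symm.trans (congrArg (· ≫ f) hb)))
      let m₂ : z ⟶ y := CostructuredArrow.homMk (j.left.hom ≫ r.left) (by
        change (j.left.hom.hom ≫ r.left.hom) ≫ y.hom = j.hom.left ≫ f
        rw [Category.assoc, show r.left.hom ≫ y.hom = j.hom.right from CostructuredArrow.w r, sq_w])
      let c := IsFiltered.coeqHom m₁ m₂
      have hy : c.left.hom ≫ (IsFiltered.coeq m₁ m₂).hom = y.hom := CostructuredArrow.w c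
      let t : (π₂ f).obj i' ⟶ IsFiltered.coeq m₁ m₂ := q ≫ c
      let j' : Sq f := Sq.mk' f (i'.left.hom ≫ t.left) i'.hom.left (IsFiltered.coeq m₁ m₂).hom (by
        change i'.hom.left ≫ f = (i'.left.hom.hom ≫ t.left.hom) ≫ _
        rw [Category.assoc, show t.left.hom ≫ _ = i'.hom.right from CostructuredArrow.w t, sq_w])
      have hc : b.left ≫ i'.left.hom ≫ t.left = j.left.hom ≫ r.left ≫ c.left := by
        have := congrArg CommaMorphism.left (IsFiltered.coeq_condition m₁ m₂)
        simpa [m₁, m₂, t] using this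
      refine ⟨j', φ ≫ CostructuredArrow.homMk
          (Arrow.homMk (𝟙 _) t.left (Category.id_comp _)) ?_,
        CostructuredArrow.homMk (Arrow.homMk b.left (r.left ≫ c.left) hc) ?_, trivial⟩
      · ext1
        · exact Category.id_comp _
        · exact CostructuredArrow.w t
      · ext1
        · exact hb
        · exact CostructuredArrow.w (r ≫ c)
    · obtain ⟨j₁, φ, e, he⟩ := exists_under f (IsFiltered.coeqHom ((π₁ f).map u) ((π₁ f).map v))
      obtain ⟨j₂, ψ, e', he'⟩ := exists_under₂ f
        (IsFiltered.coeqHom ((π₂ f).map (u ≫ φ)) ((π₂ f).map (v ≫ φ)))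
      have h₁ : (π₁ f).map (u ≫ φ) = (π₁ f).map (v ≫ φ) := by
        rw [Functor.map_comp, Functor.map_comp, he, ← Category.assoc, ← Category.assoc,
          IsFiltered.coeq_condition]
      have h₂ : (π₂ f).map (u ≫ φ ≫ ψ) = (π₂ f).map (v ≫ φ ≫ ψ) := by
        rw [← Category.assoc, ← Category.assoc, Functor.map_comp, Functor.map_comp _ _ ψ, he',
          ← Category.assoc, ← Category.assoc, IsFiltered.coeq_condition]
      refine ⟨j₂, φ ≫ ψ, ?_⟩
      apply CostructuredArrow.hom_ext
      ext1
      · have := congrArg CommaMorphism.left h₁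
        rw [← Category.assoc u φ ψ, ← Category.assoc v φ ψ]
        change (u ≫ φ).left.left ≫ ψ.left.left = (v ≫ φ).left.left ≫ ψ.left.left
        exact congrArg (· ≫ ψ.left.left) this
      · exact congrArg CommaMorphism.left h₂
  have : Nonempty (Sq f) := ⟨Sq.mk' f (𝟙 (0 : FP C)) 0 0 (by simp)⟩
  exact ⟨⟩

lemma final_π₁ : (π₁ f).Final := by
  haveI := isFiltered_sq f
  refine Functor.final_of_exists_of_isFiltered _ (fun d => ?_) (fun {d j} s s' => ?_)
  · exact ⟨Sq.mk' f (𝟙 d.left) d.hom (d.hom ≫ f) (Category.id_comp _).symm,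
      ⟨CostructuredArrow.homMk (𝟙 d.left) (Category.id_comp _)⟩⟩
  · obtain ⟨j', φ, e, he⟩ := exists_under f (IsFiltered.coeqHom s s')
    exact ⟨j', φ, by rw [he, ← Category.assoc, ← Category.assoc, IsFiltered.coeq_condition]⟩

lemma final_π₂ : (π₂ f).Final := by
  haveI := isFiltered_sq f
  refine Functor.final_of_exists_of_isFiltered _ (fun d => ?_) (fun {d j} s s' => ?_)
  · exact ⟨Sq.mk' f (0 : (0 : FP C) ⟶ d.left) 0 d.hom (by simp),
      ⟨CostructuredArrow.homMk (𝟙 d.left) (Category.id_comp _)⟩⟩
  · obtain ⟨j', φ, e, he⟩ := exists_under₂ f (IsFiltered.coeqHom s s')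
    exact ⟨j', φ, by rw [he, ← Category.assoc, ← Category.assoc, IsFiltered.coeq_condition]⟩

lemma essentiallySmall_sq : EssentiallySmall.{u} (Sq f) := by
  haveI : EssentiallySmall.{u} (Arrow (FP C)) := by
    rw [essentiallySmall_congr ((equivSmallModel.{u} (FP C)).functor.mapArrow.asEquivalence)]
    exact essentiallySmallSelf _
  infer_instance

lemma exists_smallDiagram :
    ∃ (S : Type u) (_ : SmallCategory S) (_ : IsFiltered S) (G H : S ⥤ FP C) (k : G ⟶ H)
      (a : colimit (G ⋙ (fp C).ι) ≅ X) (b : colimit (H ⋙ (fp C).ι) ≅ Y),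
      colim.map (Functor.whiskerRight k (fp C).ι) ≫ b.hom = a.hom ≫ f := by
  haveI := isFiltered_sq f
  haveI := final_π₁ f
  haveI := final_π₂ f
  haveI := essentiallySmall_sq f
  let e := equivSmallModel.{u} (Sq f)
  haveI : IsFiltered (SmallModel.{u} (Sq f)) := IsFiltered.of_equivalence e
  let G := e.inverse ⋙ π₁ f ⋙ CostructuredArrow.proj (fp C).ι X
  let H := e.inverse ⋙ π₂ f ⋙ CostructuredArrow.proj (fp C).ι Y
  let k : G ⟶ H :=
    { app := fun s => (e.inverse.obj s).left.hom
      naturality := fun s s' φ => (e.inverse.map φ).left.w }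
  let hX := (Functor.Final.isColimitWhiskerEquiv (F := e.inverse ⋙ π₁ f) _).symm
    ((fp C).ι.denseAt X)
  let hY := (Functor.Final.isColimitWhiskerEquiv (F := e.inverse ⋙ π₂ f) _).symm
    ((fp C).ι.denseAt Y)
  let a : colimit (G ⋙ (fp C).ι) ≅ X :=
    IsColimit.coconePointUniqueUpToIso (colimit.isColimit (G ⋙ (fp C).ι)) hX
  let b : colimit (H ⋙ (fp C).ι) ≅ Y :=
    IsColimit.coconePointUniqueUpToIso (colimit.isColimit (H ⋙ (fp C).ι)) hY
  refine ⟨_, inferInstance, inferInstance, G, H, k, a, b, colimit.hom_ext fun s => ?_⟩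
  have ha : colimit.ι (G ⋙ (fp C).ι) s ≫ a.hom = (e.inverse.obj s).hom.left :=
    (IsColimit.comp_coconePointUniqueUpToIso_hom _ hX s).trans (Category.id_comp _)
  have hb : colimit.ι (H ⋙ (fp C).ι) s ≫ b.hom = (e.inverse.obj s).hom.right :=
    (IsColimit.comp_coconePointUniqueUpToIso_hom _ hY s).trans (Category.id_comp _)
  change colimit.ι _ s ≫ colimMap _ ≫ b.hom = _
  rw [ι_colimMap_assoc, hb, reassoc_of% ha]
  exact (sq_w f (e.inverse.obj s)).symm

end Arrows

section Exact

variable [Abelian C] [(fp C).ContainsZero] [HasColimitsOfSize.{u, u} C] [AB5OfSize.{u, u} C]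
    {B : Type u'} [Category.{v'} B] [Abelian B] [HasFilteredColimitsOfSize.{u, u} B] [AB5OfSize.{u, u} B]
    (F₁ : C ⥤ B) [PreservesFilteredColimitsOfSize.{u, u} F₁]

theorem preservesKernel [(fp C).IsClosedUnderKernels] [PreservesFiniteLimits ((fp C).ι ⋙ F₁)] {X Y : C} (f : X ⟶ Y) :
    PreservesLimit (parallelPair f 0) F₁ := by
  obtain ⟨S, _, _, G, H, k, a, b, hab⟩ := exists_smallDiagram f
  let k' := Functor.whiskerRight k (fp C).ι
  have hfp : ∀ s : S, PreservesLimit (parallelPair (k.app s).hom 0) F₁ := fun s => by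
    let K : FP C := ⟨kernel (k.app s).hom, (fp C).prop_kernel _ (G.obj s).property (H.obj s).property⟩
    let i : K ⟶ G.obj s := ObjectProperty.homMk (kernel.ι (k.app s).hom)
    have hi : i ≫ k.app s = 0 := ObjectProperty.hom_ext _ (kernel.condition _)
    let c : Cone (parallelPair (k.app s) (0 : G.obj s ⟶ H.obj s)) := KernelFork.ofι i hi
    have h₀ : IsLimit ((fp C).ι.mapCone c) :=
      (KernelFork.isLimitMapConeEquiv (KernelFork.ofι i hi) (fp C).ι).symm
        (IsLimit.ofIsoLimit (kernelIsKernel (k.app s).hom) (Fork.ext (Iso.refl _) (Category.id_comp _)))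
    have h₁ : IsLimit c := isLimitOfReflects (fp C).ι h₀
    have h₂ : IsLimit (F₁.mapCone ((fp C).ι.mapCone c)) := isLimitOfPreserves ((fp C).ι ⋙ F₁) h₁
    haveI : PreservesLimit (parallelPair (k.app s) 0 ⋙ (fp C).ι) F₁ :=
      preservesLimit_of_preserves_limit_cone h₀ h₂
    exact preservesLimit_of_iso_diagram F₁
      (parallelPair.ext (F := parallelPair (k.app s) 0 ⋙ (fp C).ι) (G := parallelPair (k.app s).hom 0)
        (Iso.refl _) (Iso.refl _) (by simp) (by simp))
  haveI : PreservesLimit (parallelPair k' 0) ((Functor.whiskeringRight S C B).obj F₁) := by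
    refine ⟨fun {c} hc => ⟨evaluationJointlyReflectsLimits _ fun s => ?_⟩⟩
    haveI := hfp s
    haveI : PreservesLimit (parallelPair k' 0 ⋙ (evaluation S C).obj s) F₁ :=
      preservesLimit_of_iso_diagram F₁ (K₁ := parallelPair (k.app s).hom 0)
        (parallelPair.ext (F := parallelPair (k.app s).hom 0)
          (G := parallelPair k' 0 ⋙ (evaluation S C).obj s)
          (Iso.refl _) (Iso.refl _) (by simp [k']) (by simp))
    change IsLimit (((evaluation _ _).obj s ⋙ F₁).mapCone c)
    exact isLimitOfPreserves _ hc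
  haveI : PreservesFiniteLimits (colim (J := S) (C := B)) := HasExactColimitsOfShape.preservesFiniteLimits
  haveI : PreservesFiniteLimits (colim (J := S) (C := C)) := HasExactColimitsOfShape.preservesFiniteLimits
  haveI : PreservesLimit (parallelPair k' 0)
      ((Functor.whiskeringRight S C B).obj F₁ ⋙ colim) := inferInstance
  haveI : PreservesLimit (parallelPair k' 0) (colim ⋙ F₁) :=
    preservesLimit_of_natIso _ (preservesColimitNatIso F₁ (J := S)).symm
  haveI : PreservesLimit (parallelPair k' 0 ⋙ colim) F₁ :=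
    preservesLimit_of_preserves_limit_cone
      (isLimitOfPreserves colim (limit.isLimit (parallelPair k' 0)))
      (isLimitOfPreserves (colim ⋙ F₁) (limit.isLimit (parallelPair k' 0)))
  exact preservesLimit_of_iso_diagram F₁
    (parallelPair.ext (F := parallelPair k' 0 ⋙ colim) (G := parallelPair f 0) a b hab
      (by change colim.map (0 : G ⋙ (fp C).ι ⟶ H ⋙ (fp C).ι) ≫ b.hom = a.hom ≫ 0
          rw [Functor.map_zero, zero_comp, comp_zero]))

theorem preservesCokernel [(fp C).IsClosedUnderCokernels] [PreservesFiniteColimits ((fp C).ι ⋙ F₁)] {X Y : C} (f : X ⟶ Y) :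
    PreservesColimit (parallelPair f 0) F₁ := by
  obtain ⟨S, _, _, G, H, k, a, b, hab⟩ := exists_smallDiagram f
  let k' := Functor.whiskerRight k (fp C).ι
  have hfp : ∀ s : S, PreservesColimit (parallelPair (k.app s).hom 0) F₁ := fun s => by
    let K : FP C := ⟨cokernel (k.app s).hom, (fp C).prop_cokernel _ (G.obj s).property (H.obj s).property⟩
    let i : H.obj s ⟶ K := ObjectProperty.homMk (cokernel.π (k.app s).hom)
    have hi : k.app s ≫ i = 0 := ObjectProperty.hom_ext _ (cokernel.condition _)
    let c : Cocone (parallelPair (k.app s) (0 : G.obj s ⟶ H.obj s)) := CokernelCofork.ofπ i hi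
    have h₀ : IsColimit ((fp C).ι.mapCocone c) :=
      (CokernelCofork.isColimitMapCoconeEquiv (CokernelCofork.ofπ i hi) (fp C).ι).symm
        (IsColimit.ofIsoColimit (cokernelIsCokernel (k.app s).hom) (Cofork.ext (Iso.refl _) (Category.comp_id _)))
    have h₁ : IsColimit c := isColimitOfReflects (fp C).ι h₀
    have h₂ : IsColimit (F₁.mapCocone ((fp C).ι.mapCocone c)) := isColimitOfPreserves ((fp C).ι ⋙ F₁) h₁
    haveI : PreservesColimit (parallelPair (k.app s) 0 ⋙ (fp C).ι) F₁ :=
      preservesColimit_of_preserves_colimit_cocone h₀ h₂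
    exact preservesColimit_of_iso_diagram F₁
      (parallelPair.ext (F := parallelPair (k.app s) 0 ⋙ (fp C).ι) (G := parallelPair (k.app s).hom 0)
        (Iso.refl _) (Iso.refl _) (by simp) (by simp))
  haveI : PreservesColimit (parallelPair k' 0) ((Functor.whiskeringRight S C B).obj F₁) := by
    refine ⟨fun {c} hc => ⟨evaluationJointlyReflectsColimits _ fun s => ?_⟩⟩
    haveI := hfp s
    haveI : PreservesColimit (parallelPair k' 0 ⋙ (evaluation S C).obj s) F₁ :=
      preservesColimit_of_iso_diagram F₁ (K₁ := parallelPair (k.app s).hom 0)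
        (parallelPair.ext (F := parallelPair (k.app s).hom 0)
          (G := parallelPair k' 0 ⋙ (evaluation S C).obj s)
          (Iso.refl _) (Iso.refl _) (by simp [k']) (by simp))
    change IsColimit (((evaluation _ _).obj s ⋙ F₁).mapCocone c)
    exact isColimitOfPreserves _ hc
  haveI : PreservesColimitsOfShape WalkingParallelPair (colim (J := S) (C := B)) :=
    colimConstAdj.leftAdjoint_preservesColimits.preservesColimitsOfShape
  haveI : PreservesColimitsOfShape WalkingParallelPair (colim (J := S) (C := C)) :=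
    colimConstAdj.leftAdjoint_preservesColimits.preservesColimitsOfShape
  haveI : PreservesColimit (parallelPair k' 0)
      ((Functor.whiskeringRight S C B).obj F₁ ⋙ colim) := inferInstance
  haveI : PreservesColimit (parallelPair k' 0) (colim ⋙ F₁) :=
    preservesColimit_of_natIso _ (preservesColimitNatIso F₁ (J := S)).symm
  haveI : PreservesColimit (parallelPair k' 0 ⋙ colim) F₁ :=
    preservesColimit_of_preserves_colimit_cocone
      (isColimitOfPreserves colim (colimit.isColimit (parallelPair k' 0)))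
      (isColimitOfPreserves (colim ⋙ F₁) (colimit.isColimit (parallelPair k' 0)))
  exact preservesColimit_of_iso_diagram F₁
    (parallelPair.ext (F := parallelPair k' 0 ⋙ colim) (G := parallelPair f 0) a b hab
      (by change colim.map (0 : G ⋙ (fp C).ι ⟶ H ⋙ (fp C).ι) ≫ b.hom = a.hom ≫ 0
          rw [Functor.map_zero, zero_comp, comp_zero]))

end Exact

end Groth.Agent.FinAcc10
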