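import Groth.Agent.FinAcc10.Ext
import Groth.Agent.S2128
import Groth.Agent.QCohGen.Noeth
import Groth.Agent.QCohGen.Presentable
import Groth.Agent.CohOps.FP
import Groth.Agent.QCohGen.Groth
import Groth.Agent.HomShQC.Basic
import Groth.Prelude.Def_QCohCat

/-!
# `QCoh` of a noetherian scheme as the finitely accessible category generated by `Coh`
-/

set_option autoImplicit false
universe u
open CategoryTheory CategoryTheory.Limits AlgebraicGeometry
open Groth.Agent.QCohGen

namespace Groth.Agent.FinAcc10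

attribute [local instance] Cardinal.fact_isRegular_aleph0

instance isFinitelyAccessible_qcoh (X : Scheme.{u}) [CompactSpace X] [QuasiSeparatedSpace X] :
    IsFinitelyAccessibleCategory.{u} (QCohCat.QCoh X) :=
  haveI : IsCardinalLocallyPresentable (QCohCat.QCoh X) Cardinal.aleph0.{u} := by
    rw [IsCardinalLocallyPresentable.iff_exists_isStrongGenerator]
    refine ⟨_, inferInstance, S2128.isStrongGenerator_fpGen X, ?_⟩
    rintro _ ⟨i⟩
    obtain ⟨φ, hfp, -⟩ := (S2128.exists_fp_idx X i).choose_spec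
    exact QCohGen.Presentable.isFinitelyPresentable_of_isFP (S2128.fpGen X i) hfp
  inferInstance

variable {X : Scheme.{u}} [IsNoetherian X]

theorem fp_iff (M : QCohCat.QCoh X) : fp (QCohCat.QCoh X) M ↔ Coh.IsCoh M.obj := by
  refine ⟨fun h => ?_, fun h => ?_⟩
  · haveI : IsFinitelyPresentable.{u} M := h
    haveI := QCohGen.Presentable.isFP_of_isFinitelyPresentable M
    exact CohOps.FP.isCoh_of_isFP M.obj
  · exact QCohGen.Presentable.isFinitelyPresentable_of_isFP M (HomShQC.isFP_of_isCoh (F := M.obj) h)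

theorem fp_eq : fp (QCohCat.QCoh X) = isNoetherianObject (C := QCohCat.QCoh X) := by
  ext M
  rw [fp_iff, ← isNoetherianObject.is_iff]
  exact ⟨QCohGen.Noeth.isNoetherianObject_of_isCoh M, fun _ => QCohGen.Noeth.isCoh_of_isNoetherianObject M⟩

instance containsZero_fp : (fp (QCohCat.QCoh X)).ContainsZero := by
  rw [fp_eq]; infer_instance

instance closedKernels_fp : (fp (QCohCat.QCoh X)).IsClosedUnderKernels := by
  rw [fp_eq]; infer_instance

instance closedColimits_fp (J : Type) [SmallCategory J] [FinCategory J] :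
    (fp (QCohCat.QCoh X)).IsClosedUnderColimitsOfShape J := by
  rw [show fp (QCohCat.QCoh X) = isCardinalPresentable (QCohCat.QCoh X) Cardinal.aleph0.{u} from
    ObjectProperty.isFinitelyPresentable_eq_isCardinalPresentable]
  exact isClosedUnderColimitsOfShape_isCardinalPresentable _ (by simp only [hasCardinalLT_aleph0_iff]; infer_instance)

instance closedCokernels_fp : (fp (QCohCat.QCoh X)).IsClosedUnderCokernels where
  cokernels_le := by
    rintro _ ⟨k, c, hk, hf⟩
    refine ObjectProperty.prop_of_isColimit (P := fp (QCohCat.QCoh X)) hk ?_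
    rintro (_ | _)
    exacts [hf.1, hf.2]


variable (X) in
instance closedFiniteProducts_fp : (fp (QCohCat.QCoh X)).IsClosedUnderFiniteProducts :=
  .of_isClosedUnderLimitsOfShape.{0} fun J _ => .mk' (by
    rintro _ ⟨D, hD⟩
    haveI := HasFiniteBiproducts.of_hasFiniteProducts (C := QCohCat.QCoh X)
    haveI : Fintype J := Fintype.ofFinite J
    refine ObjectProperty.prop_of_iso (fp (QCohCat.QCoh X)) ?_
      (ObjectProperty.prop_colimit (fp (QCohCat.QCoh X)) (Discrete.functor fun j : J => D.obj ⟨j⟩) fun j => hD _)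
    exact (biproduct.isoCoproduct _).symm ≪≫ biproduct.isoProduct _ ≪≫
      (HasLimit.isoOfNatIso Discrete.natIsoFunctor).symm)

noncomputable instance abelian_fp : Abelian (FP (QCohCat.QCoh X)) :=
  inferInstanceAs (Abelian (fp (QCohCat.QCoh X)).FullSubcategory)

variable (X) in
theorem preservesFiniteLimits_ι : PreservesFiniteLimits (fp (QCohCat.QCoh X)).ι := by
  have : ∀ ⦃A B : FP (QCohCat.QCoh X)⦄ (f : A ⟶ B),
      PreservesLimit (parallelPair f 0) (fp (QCohCat.QCoh X)).ι := ObjectProperty.preservesKernels_ι _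
  exact Functor.preservesFiniteLimits_of_preservesKernels _

variable (X) in
theorem preservesFiniteColimits_ι : PreservesFiniteColimits (fp (QCohCat.QCoh X)).ι := by
  have : ∀ ⦃A B : FP (QCohCat.QCoh X)⦄ (f : A ⟶ B),
      PreservesColimit (parallelPair f 0) (fp (QCohCat.QCoh X)).ι := ObjectProperty.preservesCokernels_ι _
  exact Functor.preservesFiniteColimits_of_preservesCokernels _

/-- coherent modules -/
abbrev CohCat (X : Scheme.{u}) := ObjectProperty.FullSubcategory (fun M : X.Modules => Coh.IsCoh M)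

/-- `Coh ⊆ QCoh` -/
abbrev incl (X : Scheme.{u}) : CohCat X ⥤ QCohCat.QCoh X :=
  ObjectProperty.ιOfLE (P := fun M : X.Modules => Coh.IsCoh M) (P' := QCohCat.isQCoh X) (fun _ h => h.1)

variable (X) in
/-- coherent modules are the finitely presentable objects -/
noncomputable def cohEquiv : FP (QCohCat.QCoh X) ≌ CohCat X where
  functor := ObjectProperty.lift _ ((fp (QCohCat.QCoh X)).ι ⋙ (QCohCat.isQCoh X).ι) fun G => (fp_iff G.obj).1 G.property
  inverse := ObjectProperty.lift _ (incl X) fun M => (fp_iff ((incl X).obj M)).2 M.property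
  unitIso := NatIso.ofComponents (fun G => Iso.refl _) (fun f => by
    apply ObjectProperty.hom_ext
    apply ObjectProperty.hom_ext
    exact (Category.comp_id _).trans (Category.id_comp _).symm)
  counitIso := NatIso.ofComponents (fun M => Iso.refl _) (fun f => by
    apply ObjectProperty.hom_ext
    exact (Category.comp_id _).trans (Category.id_comp _).symm)
  functor_unitIso_comp G := ObjectProperty.hom_ext _ (Category.comp_id _)

variable (Y : Scheme.{u}) [IsNoetherian Y] (F : CohCat X ⥤ CohCat Y)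

/-- `F` on the finitely presentable objects -/
noncomputable abbrev F₀ : FP (QCohCat.QCoh X) ⥤ QCohCat.QCoh Y := (cohEquiv X).functor ⋙ F ⋙ incl Y

instance additive_cohFunctor : (cohEquiv X).functor.Additive := ⟨fun {_ _ _ _} => rfl⟩

instance additive_incl : (incl Y).Additive := ⟨fun {_ _ _ _} => rfl⟩

theorem preservesFiniteLimits_incl : PreservesFiniteLimits (incl Y) := by
  have := preservesFiniteLimits_ι Y
  exact preservesFiniteLimits_of_natIso
    (show (cohEquiv Y).inverse ⋙ (fp (QCohCat.QCoh Y)).ι ≅ incl Y from Iso.refl _)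

theorem preservesFiniteColimits_incl : PreservesFiniteColimits (incl Y) := by
  have := preservesFiniteColimits_ι Y
  exact preservesFiniteColimits_of_natIso
    (show (cohEquiv Y).inverse ⋙ (fp (QCohCat.QCoh Y)).ι ≅ incl Y from Iso.refl _)

theorem main :
    (∃ F' : QCohCat.QCoh X ⥤ QCohCat.QCoh Y, PreservesFilteredColimitsOfSize.{u, u} F' ∧
      Nonempty (incl X ⋙ F' ≅ F ⋙ incl Y)) ∧
    (∀ F₁ F₂ : QCohCat.QCoh X ⥤ QCohCat.QCoh Y, PreservesFilteredColimitsOfSize.{u, u} F₁ →
      PreservesFilteredColimitsOfSize.{u, u} F₂ →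
      Nonempty (incl X ⋙ F₁ ≅ F ⋙ incl Y) →
      Nonempty (incl X ⋙ F₂ ≅ F ⋙ incl Y) → Nonempty (F₁ ≅ F₂)) ∧
    ∀ F' : QCohCat.QCoh X ⥤ QCohCat.QCoh Y, PreservesFilteredColimitsOfSize.{u, u} F' →
      Nonempty (incl X ⋙ F' ≅ F ⋙ incl Y) →
      (F.Additive → ∀ J : Type u, PreservesColimitsOfShape (Discrete J) F') ∧
      (PreservesFiniteLimits F → PreservesFiniteLimits F') ∧
      (PreservesFiniteColimits F → PreservesFiniteColimits F') := by
  let toι : ∀ G : QCohCat.QCoh X ⥤ QCohCat.QCoh Y, (incl X ⋙ G ≅ F ⋙ incl Y) →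
      ((fp (QCohCat.QCoh X)).ι ⋙ G ≅ F₀ Y F) := fun G e =>
    (show (fp (QCohCat.QCoh X)).ι ⋙ G ≅ (cohEquiv X).functor ⋙ incl X ⋙ G from Iso.refl _) ≪≫
      Functor.isoWhiskerLeft (cohEquiv X).functor e
  refine ⟨?_, fun F₁ F₂ h₁ h₂ ⟨e₁⟩ ⟨e₂⟩ => ?_, fun F' h' ⟨e'⟩ => ?_⟩
  · haveI : (fp (QCohCat.QCoh X)).ι.HasPointwiseLeftKanExtension (F₀ Y F) := fun M =>
      haveI := hasColimitsOfShape_costructuredArrow (B := QCohCat.QCoh Y) M
      (inferInstance : HasColimit (CostructuredArrow.proj (fp (QCohCat.QCoh X)).ι M ⋙ F₀ Y F))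
    have hE := Functor.pointwiseLeftKanExtensionIsPointwiseLeftKanExtension (fp (QCohCat.QCoh X)).ι (F₀ Y F)
    haveI : IsIso (Functor.pointwiseLeftKanExtensionUnit (fp (QCohCat.QCoh X)).ι (F₀ Y F)) := hE.isIso_hom
    refine ⟨_, preserves_of_pointwise hE, ⟨?_⟩⟩
    exact Functor.isoWhiskerLeft (cohEquiv X).inverse
        (asIso (Functor.pointwiseLeftKanExtensionUnit (fp (QCohCat.QCoh X)).ι (F₀ Y F))).symm ≪≫
      Functor.isoWhiskerRight (cohEquiv X).counitIso (F ⋙ incl Y)
  · exact nonempty_iso F₁ F₂ (toι F₁ e₁ ≪≫ (toι F₂ e₂).symm)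
  · let eP := toι F' e'
    refine ⟨fun hF J => ?_, fun hF => ?_, fun hF => ?_⟩
    · haveI : ((fp (QCohCat.QCoh X)).ι ⋙ F').Additive := Functor.additive_of_iso eP.symm
      haveI := Groth.Agent.FinAcc10.additive F'
      exact preservesCoproducts F' J
    · haveI := preservesFiniteLimits_incl Y
      haveI : PreservesFiniteLimits ((fp (QCohCat.QCoh X)).ι ⋙ F') := preservesFiniteLimits_of_natIso eP.symm
      haveI : ((fp (QCohCat.QCoh X)).ι ⋙ F').Additive := by
        haveI : ((fp (QCohCat.QCoh X)).ι ⋙ F').PreservesZeroMorphisms :=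
          Functor.preservesZeroMorphisms_of_preserves_terminal_object
        haveI : PreservesBinaryBiproducts ((fp (QCohCat.QCoh X)).ι ⋙ F') :=
          ⟨fun {_ _} => preservesBinaryBiproduct_of_preservesBinaryProduct _⟩
        exact Functor.additive_of_preservesBinaryBiproducts _
      haveI := Groth.Agent.FinAcc10.additive F'
      haveI : ∀ {A B : QCohCat.QCoh X} (f : A ⟶ B), PreservesLimit (parallelPair f 0) F' :=
        fun f => preservesKernel F' f
      exact F'.preservesFiniteLimits_of_preservesKernels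
    · haveI := preservesFiniteColimits_incl Y
      haveI : PreservesFiniteColimits ((fp (QCohCat.QCoh X)).ι ⋙ F') := preservesFiniteColimits_of_natIso eP.symm
      haveI : ((fp (QCohCat.QCoh X)).ι ⋙ F').Additive := by
        haveI : ((fp (QCohCat.QCoh X)).ι ⋙ F').PreservesZeroMorphisms :=
          Functor.preservesZeroMorphisms_of_preserves_initial_object
        haveI : PreservesBinaryBiproducts ((fp (QCohCat.QCoh X)).ι ⋙ F') :=
          ⟨fun {_ _} => preservesBinaryBiproduct_of_preservesBinaryCoproduct _⟩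
        exact Functor.additive_of_preservesBinaryBiproducts _
      haveI := Groth.Agent.FinAcc10.additive F'
      haveI : ∀ {A B : QCohCat.QCoh X} (f : A ⟶ B), PreservesColimit (parallelPair f 0) F' :=
        fun f => preservesCokernel F' f
      exact F'.preservesFiniteColimits_of_preservesCokernels

end Groth.Agent.FinAcc10
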